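import Cfsg.Agent.H127.Co3.SimA
import Cfsg.Agent.H13.Co3.Def

/-!
# S1920, `E8(q)`, `z` of type `D8` : the tables of `N0` (GLUE8, helper127)

* `fr_four` : `N² = Z` : `ker (N + 1) ≤ ker (Z - 1)`;
* `fr_two` : `N² = 1`, `N M = Z M N` : `dim ker (N + 1) = dim (ker (N + 1) ⊓ ker (Z - 1)) + 1/2 dim ker (Z + 1)`;
* `tabI_of` : the tables from those of the 248-dimensional module.
-/

set_option autoImplicit false

open Module

namespace Cfsg.Agent.H127.Co3

open Cfsg.Agent.H64.Co3 Cfsg.Agent.H13.Co3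

section Lin

variable {F L : Type*} [Field F] [AddCommGroup L] [Module F L]

theorem mem_kp {N : Module.End F L} {v : L} : v ∈ LinearMap.ker (N + 1) ↔ N v = -v := by
  rw [LinearMap.mem_ker, LinearMap.add_apply, Module.End.one_apply, add_eq_zero_iff_eq_neg]

theorem mem_km {N : Module.End F L} {v : L} : v ∈ LinearMap.ker (N - 1) ↔ N v = v := by
  rw [LinearMap.mem_ker, LinearMap.sub_apply, Module.End.one_apply, sub_eq_zero]

theorem ker_four {N Z : Module.End F L} (h : N * N = Z) :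
    LinearMap.ker (N + 1) ⊓ LinearMap.ker (Z - 1) = LinearMap.ker (N + 1) := by
  refine inf_eq_left.2 fun v hv => ?_
  rw [mem_kp] at hv
  rw [mem_km, ← h, Module.End.mul_apply, hv, map_neg, hv, neg_neg]

variable [FiniteDimensional F L]

theorem fr_two (h2 : (2 : F) ≠ 0) {N M Z : Module.End F L} (hN : N * N = 1) (hZ : Z * Z = 1) (hNZ : N * Z = Z * N)
    (hMZ : M * Z = Z * M) (hNM : N * M = Z * (M * N)) (hM : Function.Injective M) :
    2 * finrank F ↥(LinearMap.ker (N + 1)) =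
      2 * finrank F ↥(LinearMap.ker (N + 1) ⊓ LinearMap.ker (Z - 1)) + finrank F ↥(LinearMap.ker (Z + 1)) := by
  have hN' : ∀ v, N (N v) = v := fun v => by rw [← Module.End.mul_apply, hN, Module.End.one_apply]
  have hZ' : ∀ v, Z (Z v) = v := fun v => by rw [← Module.End.mul_apply, hZ, Module.End.one_apply]
  have hNZ' : ∀ v, N (Z v) = Z (N v) := fun v => by rw [← Module.End.mul_apply, hNZ, Module.End.mul_apply]
  have hMZ' : ∀ v, M (Z v) = Z (M v) := fun v => by rw [← Module.End.mul_apply, hMZ, Module.End.mul_apply]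
  have hNM' : ∀ v, N (M v) = Z (M (N v)) := fun v => by
    rw [← Module.End.mul_apply, hNM, Module.End.mul_apply, Module.End.mul_apply]
  have e1 : finrank F ↥(LinearMap.ker (N + 1)) = finrank F ↥(LinearMap.ker (N + 1) ⊓ LinearMap.ker (Z - 1)) +
      finrank F ↥(LinearMap.ker (N + 1) ⊓ LinearMap.ker (Z + 1)) := by
    refine split h2 Z hZ' ?_ ?_ ?_
    · intro v hv
      rw [mem_kp] at hv ⊢
      rw [hNZ', hv, map_neg]
    · intro v
      rw [Submodule.mem_inf, mem_km]
    · intro v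
      rw [Submodule.mem_inf, mem_kp (N := Z)]
  have e2 : finrank F ↥(LinearMap.ker (Z + 1)) = finrank F ↥(LinearMap.ker (N - 1) ⊓ LinearMap.ker (Z + 1)) +
      finrank F ↥(LinearMap.ker (N + 1) ⊓ LinearMap.ker (Z + 1)) := by
    refine split h2 N hN' ?_ ?_ ?_
    · intro v hv
      rw [mem_kp] at hv ⊢
      rw [← hNZ', hv, map_neg]
    · intro v
      rw [Submodule.mem_inf, mem_km, and_comm]
    · intro v
      rw [Submodule.mem_inf, mem_kp (N := N), and_comm]
  have e3 : finrank F ↥(LinearMap.ker (N - 1) ⊓ LinearMap.ker (Z + 1)) =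
      finrank F ↥(LinearMap.ker (N + 1) ⊓ LinearMap.ker (Z + 1)) := by
    refine fr_eq M hM ?_ ?_
    · rintro v ⟨h3, h4⟩
      rw [SetLike.mem_coe, mem_km] at h3
      rw [SetLike.mem_coe, mem_kp] at h4
      rw [Submodule.mem_inf, mem_kp, mem_kp]
      have h5 : Z (M v) = - M v := by rw [← hMZ', h4, map_neg]
      exact ⟨by rw [hNM', h3, h5], h5⟩
    · rintro v ⟨h3, h4⟩
      rw [SetLike.mem_coe, mem_kp] at h3
      rw [SetLike.mem_coe, mem_kp] at h4
      rw [Submodule.mem_inf, mem_km, mem_kp]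
      have h5 : Z (M v) = - M v := by rw [← hMZ', h4, map_neg]
      exact ⟨by rw [hNM', h3, map_neg, map_neg, h5, neg_neg], h5⟩
  omega

end Lin

section Tab

variable {F V L G : Type*} [Field F] [AddCommGroup V] [Module F V] [AddCommGroup L] [Module F L]
  [FiniteDimensional F L] [Group G] {Q : QuadraticForm F V} {P N0 : Subgroup G} {z s : G}
  {ψ : ↥(Subgroup.normalizer (P : Set G)) →* Equiv.Perm (Fin 6)} {R : G → (V ≃ₗ[F] V) → Prop}

theorem CB.z_comm (C : CB P N0 z s ψ) {n : G} (hn : n ∈ N0) : n * z = z * n := by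
  rw [← C.s_sq, ← mul_assoc, C.s_cen n hn, mul_assoc, C.s_cen n hn, mul_assoc]

/-- the element has a partner anticommuting up to `z` -/
theorem CB.exists_anti (C : CB P N0 z s ψ) {n : G} (hn : n ∈ N0) (h1 : n * n = 1) (hn1 : n ≠ 1) (hnz : n ≠ z) :
    ∃ m ∈ N0, n * m = z * (m * n) := by
  by_contra hcon
  push Not at hcon
  have h2 : ∀ m ∈ N0, n * m = m * n := fun m hm => (C.comm n hn m hm).resolve_right (hcon m hm)
  obtain ⟨k, hk⟩ := Subgroup.mem_zpowers_iff.1 (C.cen n hn h2)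
  have hs2 : s ^ (2 : ℤ) = z := by
    rw [zpow_two, C.s_sq]
  have hs4 : s ^ (4 : ℤ) = 1 := by
    have : s ^ (4 : ℤ) = s ^ (2 : ℤ) * s ^ (2 : ℤ) := by rw [← zpow_add]; rfl
    rw [this, hs2, C.z_sq]
  have hk' : s ^ (k % 4) = n := by
    rw [← hk]
    conv_rhs => rw [← Int.emod_add_mul_ediv k 4, zpow_add, zpow_mul, hs4, one_zpow, mul_one]
  have h0 : 0 ≤ k % 4 := Int.emod_nonneg _ (by norm_num)
  have h4 : k % 4 < 4 := Int.emod_lt_of_pos _ (by norm_num)
  generalize k % 4 = j at hk' h0 h4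
  interval_cases j
  · exact hn1 (by rw [← hk', zpow_zero])
  · rw [zpow_one] at hk'
    rw [← hk', C.s_sq] at h1
    exact C.z_ne h1
  · exact hnz (by rw [← hk', hs2])
  · have h3 : n * n = s ^ (4 : ℤ) * s ^ (2 : ℤ) := by rw [← hk']; group
    rw [hs4, hs2, one_mul, h1] at h3
    exact C.z_ne h3.symm

/-- **GLUE8** -/
theorem tabI_of (C : CB P N0 z s ψ) (ρ : G →* Module.End F L) (h2 : (2 : F) ≠ 0)
    (hm2 : ∀ g : G, g * g = 1 → g ≠ 1 → finrank F ↥(LinearMap.ker (ρ g + 1)) = 112 ∨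
      finrank F ↥(LinearMap.ker (ρ g + 1)) = 128)
    (hm4 : ∀ g : G, g * g = z → finrank F ↥(LinearMap.ker (ρ g + 1)) ∈ ({28, 56, 60} : Set ℕ))
    (hz : finrank F ↥(LinearMap.ker (ρ z + 1)) = 128)
    (hR : ∀ n ∈ N0, ∀ M, R n M → finrank F ↥(adm Q M) =
      finrank F ↥(LinearMap.ker (ρ n + 1) ⊓ LinearMap.ker (ρ z - 1))) : TabI N0 Q z R := by
  refine ⟨?_, ?_⟩
  · intro n hn h1 hn1 hnz M hM
    obtain ⟨m, hm, hnm⟩ := CB.exists_anti C hn h1 hn1 hnz
    have hinj : Function.Injective (ρ m) := by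
      intro v w h
      have e : ∀ v, ρ m⁻¹ (ρ m v) = v := fun v => by
        rw [← Module.End.mul_apply, ← map_mul, inv_mul_cancel, map_one, Module.End.one_apply]
      rw [← e v, h, e w]
    have h3 := fr_two h2 (N := ρ n) (M := ρ m) (Z := ρ z) (by rw [← map_mul, h1, map_one])
      (by rw [← map_mul, C.z_sq, map_one]) (by rw [← map_mul, CB.z_comm C hn, map_mul])
      (by rw [← map_mul, CB.z_comm C hm, map_mul]) (by rw [← map_mul, hnm, map_mul, map_mul]) hinj
    rw [hz, ← hR n hn M hM] at h3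
    have h4 := hm2 n h1 hn1
    omega
  · intro n hn h1 M hM
    have h3 := hm4 n h1
    have h4 := ker_four (N := ρ n) (Z := ρ z) (by rw [← map_mul, h1])
    rw [← h4, ← hR n hn M hM] at h3
    simpa using h3

end Tab

end Cfsg.Agent.H127.Co3
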