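import Cfsg.Agent.H127.Co3.Glue8E
import Cfsg.Agent.H736.Co3.Tab8b

/-!
# S1920, `E8(q)`, `z` of type `D8` : the tables of `N0` for the relation of helper736 (helper127)
-/

set_option autoImplicit false

open Module Matrix

namespace Cfsg.Agent.H127.Co3

open Cfsg.Lie Cfsg.Agent.H64.Co3 Cfsg.Agent.H13.Co3 Cfsg.Agent.H736.Co3

theorem card_bad8 : Fintype.card {s : Fin chevE8.nroots // T8.In s = false} = 128 := by
  rw [Fintype.card_subtype]
  decide +kernel

theorem finrank_Lp8 {F : Type} [Field F] : finrank F (Lp T8 chevE8 F) + 128 = 248 := by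
  let φ : (chevE8.Idx → F) →ₗ[F] ({s : Fin chevE8.nroots // T8.In s = false} → F) :=
    { toFun := fun v s => v (Sum.inr s.1)
      map_add' := fun v w => rfl
      map_smul' := fun c v => rfl }
  have hk : LinearMap.ker φ = Lp T8 chevE8 F := by
    ext v
    rw [LinearMap.mem_ker, mem_Lp]
    constructor
    · intro h s hs
      exact congrFun h ⟨s, hs⟩
    · intro h
      funext s
      exact h s.1 s.2
  have hs : Function.Surjective φ := by
    intro w
    refine ⟨Sum.elim (fun _ => 0) (fun s => if h : T8.In s = false then w ⟨s, h⟩ else 0), ?_⟩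
    funext s
    show (if h : T8.In s.1 = false then w ⟨s.1, h⟩ else 0) = w s
    rw [dif_pos s.2]
  have h1 := LinearMap.finrank_range_add_finrank_ker φ
  rw [LinearMap.range_eq_top.2 hs, finrank_top, hk, Module.finrank_fintype_fun_eq_card,
    Module.finrank_fintype_fun_eq_card, card_bad8] at h1
  have h3 : Fintype.card chevE8.Idx = 248 := by
    show Fintype.card (Fin chevE8.rank ⊕ Fin chevE8.nroots) = 248
    rw [Fintype.card_sum, Fintype.card_fin, Fintype.card_fin]
    rfl
  rw [h3] at h1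
  omega

/-- the eigenvalue spaces of `z` -/
theorem finrank_neg8 {F : Type} [Field F] [Fintype F] (h2 : (2 : F) ≠ 0) {z : ↥(chevE8.group F)} (hzz : z * z = 1)
    (hz : ∀ v, ((z : GL chevE8.Idx F) : Matrix chevE8.Idx chevE8.Idx F) *ᵥ v = v ↔ v ∈ Lp T8 chevE8 F) :
    finrank F ↥(LinearMap.ker (H392.KKL.rho chevE8 F z + 1)) = 128 := by
  have hZ : ∀ v, H392.KKL.rho chevE8 F z (H392.KKL.rho chevE8 F z v) = v := fun v => by
    rw [← Module.End.mul_apply, ← map_mul, hzz, map_one, Module.End.one_apply]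
  have h1 := split (N := ⊤) (P := LinearMap.ker (H392.KKL.rho chevE8 F z - 1))
    (R := LinearMap.ker (H392.KKL.rho chevE8 F z + 1)) h2 (H392.KKL.rho chevE8 F z) hZ (fun _ _ => Submodule.mem_top)
    (fun v => by rw [mem_km]; exact ⟨fun h => ⟨Submodule.mem_top, h⟩, fun h => h.2⟩)
    (fun v => by rw [mem_kp]; exact ⟨fun h => ⟨Submodule.mem_top, h⟩, fun h => h.2⟩)
  have h3 : LinearMap.ker (H392.KKL.rho chevE8 F z - 1) = Lp T8 chevE8 F := by
    ext v
    rw [mem_km, ← hz, H392.KKL.rho_apply, Matrix.toLin'_apply]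
  have h4 := finrank_Lp8 (F := F)
  have h5 : Fintype.card chevE8.Idx = 248 := by
    show Fintype.card (Fin chevE8.rank ⊕ Fin chevE8.nroots) = 248
    rw [Fintype.card_sum, Fintype.card_fin, Fintype.card_fin]
    rfl
  rw [finrank_top, Module.finrank_fintype_fun_eq_card, h5, h3] at h1
  omega

/-- **GLUE8 for the relation `Rl`** -/
theorem tabI_Rl {F : Type} [Field F] [Fintype F] (h2 : (2 : F) ≠ 0) {P N0 : Subgroup ↥(chevE8.group F)}
    {z s : ↥(chevE8.group F)} {ψ : ↥(Subgroup.normalizer (P : Set ↥(chevE8.group F))) →* Equiv.Perm (Fin 6)}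
    (C : CB P N0 z s ψ)
    (hz : ∀ v, ((z : GL chevE8.Idx F) : Matrix chevE8.Idx chevE8.Idx F) *ᵥ v = v ↔ v ∈ Lp T8 chevE8 F) :
    TabI N0 (LieClassical.OrthForms.plusForm T8.m F) z
      (fun (g : ↥(chevE8.group F)) (M : VT T8 F ≃ₗ[F] VT T8 F) => Rl T8 chevE8 F (z : GL chevE8.Idx F) (g : GL chevE8.Idx F) M) := by
  refine tabI_E8 h2 C (finrank_neg8 h2 C.z_sq hz) ?_
  intro n hn M hM
  rw [T8_ok3.finrank_adm T8_ok2 T8_ok h2 hz hM]
  have e : EmS T8 chevE8 F (n : GL chevE8.Idx F) =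
      LinearMap.ker (H392.KKL.rho chevE8 F n + 1) ⊓ LinearMap.ker (H392.KKL.rho chevE8 F z - 1) := by
    ext v
    rw [Submodule.mem_inf, mem_kp, mem_km, H392.KKL.rho_apply, H392.KKL.rho_apply, Matrix.toLin'_apply,
      Matrix.toLin'_apply, hz, and_comm]
    rfl
  rw [e]

end Cfsg.Agent.H127.Co3
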