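import Cfsg.Agent.H127.Co3.SimB

/-!
# SIM: the dimension of the (-1)-eigenspace of `Ad M` on `so(Q)` (S1920, helper127)

* `sim_sq` (S1) : `M` self-adjoint, `M² = ν²` : `k (n - k)`;
* `sim_nonsq` (S2) : `M` self-adjoint, `M² = l`, `l` not a square : `n² / 4`;
* `sim_skew` (S3) : `M` skew, `M² = l ≠ 0` : `n (n - 2) / 4`.
-/

set_option autoImplicit false

open Module QuadraticMap

namespace Cfsg.Agent.H127.Co3

open Cfsg.Agent.LieClassical.OrthCore Cfsg.Agent.H64.Co3

variable {F V : Type*} [Field F] [AddCommGroup V] [Module F V] [FiniteDimensional F V] {Q : QuadraticForm F V}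
  {M : V ≃ₗ[F] V} {l ν : F}

omit [FiniteDimensional F V] in
theorem lm_M_inj (M : V ≃ₗ[F] V) : Function.Injective (lm (M : V →ₗ[F] V)) := lm_inj M.injective

omit [FiniteDimensional F V] in
theorem polar_ext (hQ : Nondeg Q) {x y : V} (h : ∀ z, polar Q x z = polar Q y z) : x = y := by
  rw [← sub_eq_zero]
  apply hQ
  intro z
  rw [polar_sub_left, h, sub_self]

section St

variable {st : (V →ₗ[F] V) →ₗ[F] (V →ₗ[F] V)}

omit [FiniteDimensional F V] in
theorem st_st (hQ : Nondeg Q) (hst : ∀ S u v, polar Q (st S u) v = polar Q u (S v)) (S : V →ₗ[F] V) :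
    st (st S) = S := by
  ext u
  refine polar_ext hQ fun v => ?_
  rw [hst, polar_comm, hst, polar_comm]

omit [FiniteDimensional F V] in
theorem st_eq_neg_iff (hQ : Nondeg Q) (hst : ∀ S u v, polar Q (st S u) v = polar Q u (S v)) (S : V →ₗ[F] V) :
    st S = -S ↔ ∀ u v, polar Q (S u) v = - polar Q u (S v) := by
  constructor
  · intro h u v
    rw [← hst, h, LinearMap.neg_apply, polar_neg_left, neg_neg]
  · intro h
    ext u
    refine polar_ext hQ fun v => ?_
    rw [hst, LinearMap.neg_apply, polar_neg_left, h, neg_neg]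

omit [FiniteDimensional F V] in
theorem st_eq_iff (hQ : Nondeg Q) (hst : ∀ S u v, polar Q (st S u) v = polar Q u (S v)) (S : V →ₗ[F] V) :
    st S = S ↔ ∀ u v, polar Q (S u) v = polar Q u (S v) := by
  constructor
  · intro h u v
    rw [← hst, h]
  · intro h
    ext u
    refine polar_ext hQ fun v => ?_
    rw [hst, h]

end St

theorem two_adm (h2 : (2 : F) ≠ 0) (hQ : Nondeg Q) (hs : ∀ u v, polar Q (M u) v = polar Q u (M v)) :
    finrank F (Zm M) = 2 * finrank F (adm Q M) := by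
  obtain ⟨st, hst⟩ := exists_st hQ
  let P : Submodule F (V →ₗ[F] V) := Zm M ⊓ LinearMap.ker (st - LinearMap.id)
  have hP : ∀ S, S ∈ P ↔ S ∈ Zm M ∧ st S = S := by
    intro S
    show S ∈ Zm M ∧ S ∈ LinearMap.ker (st - LinearMap.id) ↔ _
    rw [LinearMap.mem_ker, LinearMap.sub_apply, sub_eq_zero, LinearMap.id_apply]
  have hP' : ∀ S, S ∈ P ↔ S ∈ Zm M ∧ ∀ u v, polar Q (S u) v = polar Q u (S v) := by
    intro S
    rw [hP, st_eq_iff hQ hst]
  have h1 : finrank F (Zm M) = finrank F P + finrank F (adm Q M) := by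
    refine split h2 st (st_st hQ hst) ?_ hP ?_
    · intro S hS v
      refine polar_ext hQ fun w => ?_
      rw [hs, hst, polar_neg_left, hst, hs, hS, ← polar_neg_right, neg_neg]
    · intro S
      rw [st_eq_neg_iff hQ hst, mem_adm, and_comm]
      rfl
  have h3 : finrank F P = finrank F (adm Q M) := by
    refine fr_eq (lm (M : V →ₗ[F] V)) (lm_M_inj M) ?_ ?_
    · intro S hS
      rw [hP'] at hS
      rw [mem_adm]
      refine ⟨fun u v => ?_, fun v => ?_⟩
      · rw [lm_apply, lm_apply, LinearEquiv.coe_coe, hs, hS.2, hS.1, polar_neg_right, neg_neg]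
      · rw [lm_apply, lm_apply, LinearEquiv.coe_coe, hS.1 v, map_neg]
    · intro S hS
      rw [mem_adm] at hS
      rw [hP']
      refine ⟨fun v => ?_, fun u v => ?_⟩
      · rw [lm_apply, lm_apply, LinearEquiv.coe_coe, hS.2 v, map_neg]
      · rw [lm_apply, lm_apply, LinearEquiv.coe_coe, hs, hS.1, hS.2, polar_neg_right]
  rw [h1, h3, two_mul]

/-- the skew maps which commute with `M` -/
def Csk (Q : QuadraticForm F V) (M : V ≃ₗ[F] V) : Submodule F (V →ₗ[F] V) := so Q ⊓ Cm M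

omit [FiniteDimensional F V] in
theorem mem_Csk {S : V →ₗ[F] V} :
    S ∈ Csk Q M ↔ (∀ u v, polar Q (S u) v = - polar Q u (S v)) ∧ ∀ v, M (S v) = S (M v) := Iff.rfl

theorem two_Csk (h2 : (2 : F) ≠ 0) (hQ : Nondeg Q) (hs : ∀ u v, polar Q (M u) v = - polar Q u (M v)) :
    finrank F (Cm M) = 2 * finrank F (Csk Q M) := by
  obtain ⟨st, hst⟩ := exists_st hQ
  let P : Submodule F (V →ₗ[F] V) := Cm M ⊓ LinearMap.ker (st - LinearMap.id)
  have hP : ∀ S, S ∈ P ↔ S ∈ Cm M ∧ st S = S := by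
    intro S
    show S ∈ Cm M ∧ S ∈ LinearMap.ker (st - LinearMap.id) ↔ _
    rw [LinearMap.mem_ker, LinearMap.sub_apply, sub_eq_zero, LinearMap.id_apply]
  have hP' : ∀ S, S ∈ P ↔ S ∈ Cm M ∧ ∀ u v, polar Q (S u) v = polar Q u (S v) := by
    intro S
    rw [hP, st_eq_iff hQ hst]
  have h1 : finrank F (Cm M) = finrank F P + finrank F (Csk Q M) := by
    refine split h2 st (st_st hQ hst) ?_ hP ?_
    · intro S hS v
      refine polar_ext hQ fun w => ?_
      rw [hs, hst, hst, hs, hS]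
    · intro S
      rw [st_eq_neg_iff hQ hst, mem_Csk, and_comm]
      rfl
  have h3 : finrank F P = finrank F (Csk Q M) := by
    refine fr_eq (lm (M : V →ₗ[F] V)) (lm_M_inj M) ?_ ?_
    · intro S hS
      rw [hP'] at hS
      rw [mem_Csk]
      refine ⟨fun u v => ?_, fun v => ?_⟩
      · rw [lm_apply, lm_apply, LinearEquiv.coe_coe, hs, hS.2, hS.1]
      · rw [lm_apply, lm_apply, LinearEquiv.coe_coe, hS.1 v]
    · intro S hS
      rw [mem_Csk] at hS
      rw [hP']
      refine ⟨fun v => ?_, fun u v => ?_⟩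
      · rw [lm_apply, lm_apply, LinearEquiv.coe_coe, hS.2 v]
      · rw [lm_apply, lm_apply, LinearEquiv.coe_coe, hs, hS.1, hS.2, neg_neg]
  rw [h1, h3, two_mul]

theorem so_eq_add (h2 : (2 : F) ≠ 0) (hl : l ≠ 0) (hM : ∀ v, M (M v) = l • v)
    (hs : ∀ u v, polar Q (M u) v = - polar Q u (M v)) :
    finrank F (so Q) = finrank F (Csk Q M) + finrank F (adm Q M) := by
  refine split h2 (tau M l) (tau_tau hl hM) ?_ ?_ ?_
  · intro S hS u v
    rw [tau_apply, tau_apply, polar_smul_left, polar_smul_right, hs, hS, hs, neg_neg, smul_neg]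
  · intro S
    rw [tau_eq_iff hl hM]
    rfl
  · intro S
    rw [tau_eq_neg_iff hl hM]
    rfl

/-- **(S2)** -/
theorem sim_nonsq (h2 : (2 : F) ≠ 0) (hQ : Nondeg Q) (hs : ∀ u v, polar Q (M u) v = polar Q u (M v))
    (hM : ∀ v, M (M v) = l • v) (hl : ¬ IsSquare l) :
    4 * finrank F (adm Q M) = finrank F V * finrank F V := by
  have hl0 : l ≠ 0 := by rintro rfl; exact hl IsSquare.zero
  obtain ⟨T, hT, hTM⟩ := exists_T_nonsq hl hM
  have h3 := dim_CZ (M := M) h2 hl0 hM
  have h4 := dim_C_eq_Z (M := M) hT hTM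
  have h5 := two_adm (M := M) h2 hQ hs
  rw [h3, h4, h5]
  ring

/-- the two eigenspaces of `M`, `M² = ν²` -/
theorem isCompl_eig (h2 : (2 : F) ≠ 0) (hν : ν ≠ 0) (hM : ∀ v, M (M v) = (ν * ν) • v) :
    IsCompl (LinearMap.ker ((M : V →ₗ[F] V) - ν • LinearMap.id))
      (LinearMap.ker ((M : V →ₗ[F] V) + ν • LinearMap.id)) := by
  have h2ν : (2 * ν) ≠ 0 := mul_ne_zero h2 hν
  refine ⟨?_, ?_⟩
  · rw [Submodule.disjoint_def]
    intro x hx hx'
    rw [LinearMap.mem_ker, LinearMap.sub_apply, LinearMap.smul_apply, LinearMap.id_apply, sub_eq_zero] at hx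
    rw [LinearMap.mem_ker, LinearMap.add_apply, LinearMap.smul_apply, LinearMap.id_apply, hx, ← add_smul,
      ← two_mul] at hx'
    exact (smul_eq_zero.1 hx').resolve_left h2ν
  · rw [codisjoint_iff, eq_top_iff]
    intro x _
    have e : x = (2 * ν)⁻¹ • (ν • x + M x) + (2 * ν)⁻¹ • (ν • x - M x) := by
      rw [← smul_add, add_add_sub_cancel, ← two_smul F (ν • x), smul_smul, smul_smul]
      have : (2 * ν)⁻¹ * (2 * ν) = 1 := inv_mul_cancel₀ h2ν
      rw [mul_assoc, this, one_smul]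
    rw [e]
    refine Submodule.add_mem_sup ?_ ?_
    · rw [LinearMap.mem_ker, LinearMap.sub_apply, LinearMap.smul_apply, LinearMap.id_apply, LinearEquiv.coe_coe,
        map_smul, map_add, map_smul, hM]
      module
    · rw [LinearMap.mem_ker, LinearMap.add_apply, LinearMap.smul_apply, LinearMap.id_apply, LinearEquiv.coe_coe,
        map_smul, map_sub, map_smul, hM]
      module

omit [FiniteDimensional F V] in
theorem mem_ep {x : V} : x ∈ LinearMap.ker ((M : V →ₗ[F] V) - ν • LinearMap.id) ↔ M x = ν • x := by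
  rw [LinearMap.mem_ker, LinearMap.sub_apply, LinearMap.smul_apply, LinearMap.id_apply, sub_eq_zero,
    LinearEquiv.coe_coe]

omit [FiniteDimensional F V] in
theorem mem_em {x : V} : x ∈ LinearMap.ker ((M : V →ₗ[F] V) + ν • LinearMap.id) ↔ M x = -(ν • x) := by
  rw [LinearMap.mem_ker, LinearMap.add_apply, LinearMap.smul_apply, LinearMap.id_apply, LinearEquiv.coe_coe,
    add_eq_zero_iff_eq_neg]

/-- **(S1)** -/
theorem sim_sq (h2 : (2 : F) ≠ 0) (hQ : Nondeg Q) (hs : ∀ u v, polar Q (M u) v = polar Q u (M v))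
    (hM : ∀ v, M (M v) = (ν * ν) • v) (hν : ν ≠ 0) :
    finrank F (adm Q M) = finrank F (LinearMap.ker ((M : V →ₗ[F] V) - ν • LinearMap.id)) *
      (finrank F V - finrank F (LinearMap.ker ((M : V →ₗ[F] V) - ν • LinearMap.id))) := by
  obtain ⟨st, hst⟩ := exists_st hQ
  have hc := isCompl_eig (M := M) h2 hν hM
  set P := LinearMap.ker ((M : V →ₗ[F] V) - ν • LinearMap.id) with hP
  set R := LinearMap.ker ((M : V →ₗ[F] V) + ν • LinearMap.id) with hR
  have hR' : finrank F V - finrank F P = finrank F R := by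
    have := Submodule.finrank_add_eq_of_isCompl hc
    omega
  have hdec : ∀ v, ∃ u ∈ P, ∃ w ∈ R, u + w = v := fun v => by
    have : v ∈ P ⊔ R := by rw [hc.sup_eq_top]; trivial
    exact Submodule.mem_sup.1 this
  have horth : ∀ u ∈ P, ∀ w ∈ R, polar Q u w = 0 := by
    intro u hu w hw
    have h := hs u w
    rw [mem_ep.1 hu, mem_em.1 hw, polar_smul_left, polar_neg_right, polar_smul_right, smul_eq_mul] at h
    have h3 : (2 * ν) * polar Q u w = 0 := by linear_combination h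
    exact (mul_eq_zero.1 h3).resolve_left (mul_ne_zero h2 hν)
  rw [hR', ← Module.finrank_linearMap F F P R]
  -- the extension of `f : P → R` by zero
  let ex : (P →ₗ[F] R) →ₗ[F] (V →ₗ[F] V) :=
    { toFun := fun f => LinearMap.ofIsCompl hc (R.subtype ∘ₗ f) 0
      map_add' := fun f g => by
        ext v
        obtain ⟨u, hu, w, hw, rfl⟩ := hdec v
        have e1 := fun f : P →ₗ[F] R => LinearMap.ofIsCompl_apply_left hc (φ := R.subtype ∘ₗ f) (ψ := 0) ⟨u, hu⟩
        have e2 := fun f : P →ₗ[F] R => LinearMap.ofIsCompl_apply_right hc (φ := R.subtype ∘ₗ f) (ψ := 0) ⟨w, hw⟩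
        simp only at e1 e2
        simp only [map_add, LinearMap.add_apply, e1, e2]
        simp
      map_smul' := fun c f => by
        ext v
        obtain ⟨u, hu, w, hw, rfl⟩ := hdec v
        have e1 := fun f : P →ₗ[F] R => LinearMap.ofIsCompl_apply_left hc (φ := R.subtype ∘ₗ f) (ψ := 0) ⟨u, hu⟩
        have e2 := fun f : P →ₗ[F] R => LinearMap.ofIsCompl_apply_right hc (φ := R.subtype ∘ₗ f) (ψ := 0) ⟨w, hw⟩
        simp only at e1 e2
        simp only [map_add, LinearMap.smul_apply, e1, e2]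
        simp }
  have hexP : ∀ f (u : V) (hu : u ∈ P), ex f u = f ⟨u, hu⟩ := fun f u hu =>
    LinearMap.ofIsCompl_apply_left hc (φ := R.subtype ∘ₗ f) (ψ := 0) ⟨u, hu⟩
  have hexR : ∀ f (w : V) (_ : w ∈ R), ex f w = 0 := fun f w hw =>
    LinearMap.ofIsCompl_apply_right hc (φ := R.subtype ∘ₗ f) (ψ := 0) ⟨w, hw⟩
  -- `M A = -ν A`, `A M = ν A`
  have hMA : ∀ f v, M (ex f v) = -(ν • ex f v) := by
    intro f v
    obtain ⟨u, hu, w, hw, rfl⟩ := hdec v
    rw [map_add, hexP f u hu, hexR f w hw, add_zero]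
    exact mem_em.1 (f ⟨u, hu⟩).2
  have hAM : ∀ f v, ex f (M v) = ν • ex f v := by
    intro f v
    obtain ⟨u, hu, w, hw, rfl⟩ := hdec v
    rw [map_add, map_add, mem_ep.1 hu, mem_em.1 hw, map_add, map_smul, map_neg, map_smul, hexR f w hw, smul_zero,
      neg_zero, add_zero, add_zero]
  have hMs : ∀ f v, M (st (ex f) v) = ν • st (ex f) v := by
    intro f v
    refine polar_ext hQ fun w => ?_
    rw [hs, hst, hAM, polar_smul_right, polar_smul_left, hst]
  have hsM : ∀ f v, st (ex f) (M v) = -(ν • st (ex f) v) := by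
    intro f v
    refine polar_ext hQ fun w => ?_
    rw [hst, hs, hMA, polar_neg_right, polar_neg_left, polar_smul_right, polar_smul_left, hst]
  let g : (P →ₗ[F] R) →ₗ[F] (V →ₗ[F] V) := ex - st ∘ₗ ex
  have hg : ∀ f v, g f v = ex f v - st (ex f) v := fun f v => rfl
  have hstP : ∀ f (u : V) (_ : u ∈ P), st (ex f) u = 0 := by
    intro f u hu
    have h3 := hsM f u
    rw [mem_ep.1 hu, map_smul] at h3
    have h4 : (2 * ν) • st (ex f) u = 0 := by
      rw [mul_smul, two_smul]; nth_rw 1 [h3]; exact neg_add_cancel _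
    exact (smul_eq_zero.1 h4).resolve_left (mul_ne_zero h2 hν)
  have hginj : Function.Injective g := by
    intro f f' h
    ext ⟨u, hu⟩
    have h3 : g f u = g f' u := by rw [h]
    rw [hg, hg, hstP f u hu, hstP f' u hu, sub_zero, sub_zero, hexP f u hu, hexP f' u hu] at h3
    exact h3
  have hrange : LinearMap.range g = adm Q M := by
    ext S
    constructor
    · rintro ⟨f, rfl⟩
      rw [mem_adm]
      refine ⟨fun u v => ?_, fun v => ?_⟩
      · rw [hg, hg, polar_sub_left, polar_sub_right, hst, ← hst (st (ex f)), st_st hQ hst]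
        ring
      · rw [hg, hg, map_sub, hMA, hMs, hAM, hsM]
        module
    · intro hS
      rw [mem_adm] at hS
      have hSP : ∀ u ∈ P, S u ∈ R := by
        intro u hu
        rw [mem_em, hS.2, mem_ep.1 hu, map_smul]
      have hSR : ∀ w ∈ R, S w ∈ P := by
        intro w hw
        rw [mem_ep, hS.2, mem_em.1 hw, map_neg, map_smul, neg_neg]
      refine ⟨LinearMap.codRestrict R (S ∘ₗ P.subtype) (fun u => hSP u u.2), ?_⟩
      set f := LinearMap.codRestrict R (S ∘ₗ P.subtype) (fun u => hSP u u.2) with hf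
      ext v
      obtain ⟨u, hu, w, hw, rfl⟩ := hdec v
      rw [map_add, map_add, hg, hg, hstP f u hu, hexR f w hw, hexP f u hu, sub_zero, zero_sub]
      have e1 : (f ⟨u, hu⟩ : V) = S u := rfl
      have e2 : st (ex f) w = - S w := by
        refine polar_ext hQ fun z => ?_
        obtain ⟨u', hu', w', hw', rfl⟩ := hdec z
        rw [hst, map_add, hexR f w' hw', hexP f u' hu', add_zero, polar_neg_left, polar_add_right,
          horth _ (hSR w hw) _ hw', add_zero, hS.1, neg_neg]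
        rfl
      rw [e1, e2, neg_neg]
  rw [← hrange]
  exact LinearMap.finrank_range_of_inj hginj

theorem exists_T_skew (h2 : (2 : F) ≠ 0) (hQ : Nondeg Q) (hν : ν ≠ 0) (hM : ∀ v, M (M v) = (ν * ν) • v)
    (hs : ∀ u v, polar Q (M u) v = - polar Q u (M v)) :
    ∃ T : V →ₗ[F] V, Function.Injective T ∧ ∀ v, M (T v) = - T (M v) := by
  have hc := isCompl_eig (M := M) h2 hν hM
  set P := LinearMap.ker ((M : V →ₗ[F] V) - ν • LinearMap.id) with hP
  set R := LinearMap.ker ((M : V →ₗ[F] V) + ν • LinearMap.id) with hR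
  have hdec : ∀ v, ∃ u ∈ P, ∃ w ∈ R, u + w = v := fun v => by
    have : v ∈ P ⊔ R := by rw [hc.sup_eq_top]; trivial
    exact Submodule.mem_sup.1 this
  have h2ν : 2 * ν ≠ 0 := mul_ne_zero h2 hν
  have hPP : ∀ u ∈ P, ∀ w ∈ P, polar Q u w = 0 := by
    intro u hu w hw
    have h := hs u w
    rw [mem_ep.1 hu, mem_ep.1 hw, polar_smul_left, polar_smul_right, smul_eq_mul] at h
    have h3 : (2 * ν) * polar Q u w = 0 := by linear_combination h
    exact (mul_eq_zero.1 h3).resolve_left h2ν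
  have hRR : ∀ u ∈ R, ∀ w ∈ R, polar Q u w = 0 := by
    intro u hu w hw
    have h := hs u w
    rw [mem_em.1 hu, mem_em.1 hw, polar_neg_left, polar_neg_right, polar_smul_left, polar_smul_right, smul_eq_mul] at h
    have h3 : (2 * ν) * polar Q u w = 0 := by linear_combination -h
    exact (mul_eq_zero.1 h3).resolve_left h2ν
  obtain ⟨D, hD⟩ := exists_ri hQ
  -- `P` embeds into the dual of `R` and conversely
  have hle : ∀ A B : Submodule F V, (∀ v, ∃ u ∈ A, ∃ w ∈ B, u + w = v) → (∀ u ∈ A, ∀ w ∈ A, polar Q u w = 0) →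
      finrank F A ≤ finrank F B := by
    intro A B hAB hAA
    rw [← Subspace.dual_finrank_eq (K := F) (V := B)]
    let e : A →ₗ[F] Module.Dual F B := (B.subtype.dualMap) ∘ₗ (D : V →ₗ[F] Module.Dual F V) ∘ₗ A.subtype
    refine LinearMap.finrank_le_finrank_of_injective (f := e) ?_
    rw [← LinearMap.ker_eq_bot, LinearMap.ker_eq_bot']
    rintro ⟨x, hx⟩ h
    apply Subtype.ext
    apply hQ
    intro y
    obtain ⟨u, hu, w, hw, rfl⟩ := hAB y
    have h3 : D x w = 0 := LinearMap.congr_fun h ⟨w, hw⟩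
    rw [polar_add_right, hAA x hx u hu, zero_add, ← hD, h3]
  have hfr : finrank F P = finrank F R :=
    le_antisymm (hle P R hdec hPP) (hle R P (fun v => by
      obtain ⟨u, hu, w, hw, h⟩ := hdec v
      exact ⟨w, hw, u, hu, by rw [add_comm]; exact h⟩) hRR)
  let φ : P ≃ₗ[F] R := LinearEquiv.ofFinrankEq P R hfr
  let T : V →ₗ[F] V := LinearMap.ofIsCompl hc (R.subtype ∘ₗ (φ : P →ₗ[F] R)) (P.subtype ∘ₗ (φ.symm : R →ₗ[F] P))
  have h1 : ∀ u (hu : u ∈ P), T u = φ ⟨u, hu⟩ := fun u hu => LinearMap.ofIsCompl_apply_left hc ⟨u, hu⟩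
  have h3 : ∀ w (hw : w ∈ R), T w = φ.symm ⟨w, hw⟩ := fun w hw => LinearMap.ofIsCompl_apply_right hc ⟨w, hw⟩
  have hTT : ∀ v, T (T v) = v := by
    intro v
    obtain ⟨u, hu, w, hw, rfl⟩ := hdec v
    rw [map_add, h1 u hu, h3 w hw, map_add, h3 _ (φ ⟨u, hu⟩).2, h1 _ (φ.symm ⟨w, hw⟩).2]
    simp
  refine ⟨T, fun x y h => ?_, fun v => ?_⟩
  · rw [← hTT x, h, hTT]
  · obtain ⟨u, hu, w, hw, rfl⟩ := hdec v
    rw [map_add T, map_add M, map_add M, map_add T, mem_ep.1 hu, mem_em.1 hw, map_smul T, map_neg T, map_smul T,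
      h1 u hu, h3 w hw, mem_em.1 (φ ⟨u, hu⟩).2, mem_ep.1 (φ.symm ⟨w, hw⟩).2]
    module

/-- **(S3)** -/
theorem sim_skew (h2 : (2 : F) ≠ 0) (hQ : Nondeg Q) (hs : ∀ u v, polar Q (M u) v = - polar Q u (M v))
    (hM : ∀ v, M (M v) = l • v) (hl : l ≠ 0) :
    4 * finrank F (adm Q M) = finrank F V * (finrank F V - 2) := by
  obtain ⟨T, hT, hTM⟩ : ∃ T : V →ₗ[F] V, Function.Injective T ∧ ∀ v, M (T v) = - T (M v) := by
    by_cases hsq : IsSquare l
    · obtain ⟨ν, rfl⟩ := hsq
      exact exists_T_skew h2 hQ (fun h => hl (by rw [h, mul_zero])) hM hs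
    · exact exists_T_nonsq hsq hM
  have h3 := dim_CZ (M := M) h2 hl hM
  have h4 := dim_C_eq_Z (M := M) hT hTM
  have h5 := two_Csk (M := M) h2 hQ hs
  have h6 := so_eq_add (M := M) (Q := Q) h2 hl hM hs
  have h7 := finrank_so h2 hQ
  set n := finrank F V
  set c := finrank F (Csk Q M)
  set a := finrank F (adm Q M)
  rw [← h4, h5] at h3
  -- `n * n = 4 c`, `2 (c + a) = n (n - 1)`
  rw [h6] at h7
  rcases Nat.lt_or_ge n 2 with hn | hn
  · interval_cases n
    · omega
    · omega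
  · obtain ⟨m, hm⟩ : ∃ m, n = m + 2 := ⟨n - 2, by omega⟩
    have e1 : m + 2 - 1 = m + 1 := rfl
    have e2 : m + 2 - 2 = m := rfl
    rw [hm, e1] at h7
    rw [hm] at h3
    rw [hm, e2]
    nlinarith

end Cfsg.Agent.H127.Co3
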