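import Cfsg.Agent.H127.Co3.SimA

/-!
# The adjoint and the dimension of `so(Q)` (S1920, helper127)
-/

set_option autoImplicit false

open Module QuadraticMap

namespace Cfsg.Agent.H127.Co3

open Cfsg.Agent.LieClassical.OrthCore

variable {F V : Type*} [Field F] [AddCommGroup V] [Module F V] [FiniteDimensional F V] {Q : QuadraticForm F V}

theorem exists_ri (hQ : Nondeg Q) : ∃ D : V ≃ₗ[F] Module.Dual F V, ∀ u v, D u v = polar Q u v := by
  let B : V →ₗ[F] Module.Dual F V := polarBilin Q
  have hB : Function.Injective B := by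
    intro x y h
    rw [← sub_eq_zero]
    apply hQ
    intro z
    have h1 : polar Q x z = polar Q y z := LinearMap.congr_fun h z
    rw [polar_sub_left, h1, sub_self]
  refine ⟨LinearEquiv.ofInjectiveOfFinrankEq B hB (Subspace.dual_finrank_eq).symm, fun u v => rfl⟩

theorem exists_st (hQ : Nondeg Q) : ∃ st : (V →ₗ[F] V) →ₗ[F] (V →ₗ[F] V),
    ∀ S u v, polar Q (st S u) v = polar Q u (S v) := by
  obtain ⟨D, hD⟩ := exists_ri hQ
  refine ⟨{ toFun := fun S => (D.symm : Module.Dual F V →ₗ[F] V) ∘ₗ S.dualMap ∘ₗ (D : V →ₗ[F] Module.Dual F V)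
            map_add' := ?_
            map_smul' := ?_ }, ?_⟩
  · intro S T
    ext v
    simp only [LinearMap.comp_apply, LinearMap.add_apply, LinearEquiv.coe_coe]
    rw [← map_add]
    congr 1
    ext w
    simp
  · intro c S
    ext v
    simp only [LinearMap.comp_apply, LinearMap.smul_apply, LinearEquiv.coe_coe, RingHom.id_apply]
    rw [← map_smul]
    congr 1
    ext w
    simp
  · intro S u v
    show polar Q (D.symm (S.dualMap (D u))) v = _
    rw [← hD, LinearEquiv.apply_symm_apply, LinearMap.dualMap_apply, hD]

/-- the skew maps -/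
def so (Q : QuadraticForm F V) : Submodule F (V →ₗ[F] V) where
  carrier := {S | ∀ u v, polar Q (S u) v = - polar Q u (S v)}
  add_mem' := by
    rintro S T h1 h3 u v
    rw [LinearMap.add_apply, LinearMap.add_apply, polar_add_left, polar_add_right, h1, h3]; ring
  zero_mem' := by
    rintro u v
    rw [LinearMap.zero_apply, LinearMap.zero_apply, polar_zero_left, polar_zero_right, neg_zero]
  smul_mem' := by
    rintro c S h1 u v
    rw [LinearMap.smul_apply, LinearMap.smul_apply, polar_smul_left, polar_smul_right, h1, smul_neg]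

theorem mem_so {S : V →ₗ[F] V} : S ∈ so Q ↔ ∀ u v, polar Q (S u) v = - polar Q u (S v) := Iff.rfl

theorem card_pairs (n : ℕ) : 2 * Fintype.card {p : Fin n × Fin n // p.1 < p.2} = n * (n - 1) := by
  have e : Fintype.card {p : Fin n × Fin n // p.1 < p.2} = ∑ j : Fin n, (j : ℕ) := by
    let f : {p : Fin n × Fin n // p.1 < p.2} ≃ (Σ j : Fin n, Fin j) :=
      { toFun := fun p => ⟨p.1.2, ⟨p.1.1, p.2⟩⟩
        invFun := fun s => ⟨(⟨s.2, lt_trans s.2.2 s.1.2⟩, s.1), s.2.2⟩
        left_inv := fun p => rfl
        right_inv := fun s => rfl }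
    rw [Fintype.card_congr f, Fintype.card_sigma]
    exact Finset.sum_congr rfl fun j _ => Fintype.card_fin _
  rw [e, Fin.sum_univ_eq_sum_range (fun j => j) n, mul_comm]
  exact Finset.sum_range_id_mul_two n

theorem finrank_so (h2 : (2 : F) ≠ 0) (hQ : Nondeg Q) :
    2 * finrank F (so Q) = finrank F V * (finrank F V - 1) := by
  obtain ⟨D, hD⟩ := exists_ri hQ
  set n := finrank F V with hn
  let b := Module.finBasis F V
  let Φ : so Q →ₗ[F] ({p : Fin n × Fin n // p.1 < p.2} → F) :=
    { toFun := fun S p => polar Q (S.1 (b p.1.1)) (b p.1.2)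
      map_add' := fun S T => by
        ext p
        exact polar_add_left Q _ _ _
      map_smul' := fun c S => by
        ext p
        exact polar_smul_left Q _ _ _ }
  have hΦ : Function.Bijective Φ := by
    constructor
    · rw [← LinearMap.ker_eq_bot, LinearMap.ker_eq_bot']
      rintro ⟨S, hS⟩ h
      have h0 : ∀ i j, polar Q (S (b i)) (b j) = - polar Q (S (b j)) (b i) := by
        intro i j
        rw [hS, polar_comm]
      have h1 : ∀ i j, i < j → polar Q (S (b i)) (b j) = 0 := fun i j hij => congrFun h ⟨(i, j), hij⟩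
      have h3 : ∀ i j, polar Q (S (b i)) (b j) = 0 := by
        intro i j
        rcases lt_trichotomy i j with hij | hij | hij
        · exact h1 i j hij
        · subst hij
          have h4 := h0 i i
          have h5 : (2 : F) * polar Q (S (b i)) (b i) = 0 := by linear_combination h4
          exact (mul_eq_zero.1 h5).resolve_left h2
        · rw [h0, h1 j i hij, neg_zero]
      apply Subtype.ext
      show S = 0
      refine b.ext fun i => ?_
      rw [LinearMap.zero_apply]
      apply D.injective
      rw [map_zero]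
      refine b.ext fun j => ?_
      rw [hD, h3, LinearMap.zero_apply]
    · intro f
      let A : Fin n → Fin n → F := fun i j =>
        if h : i < j then f ⟨(i, j), h⟩ else if h : j < i then - f ⟨(j, i), h⟩ else 0
      have hA : ∀ i j, A i j = - A j i := by
        intro i j
        simp only [A]
        rcases lt_trichotomy i j with hij | hij | hij
        · rw [dif_pos hij, dif_neg (lt_asymm hij), dif_pos hij, neg_neg]
        · subst hij
          rw [dif_neg (lt_irrefl _), dif_neg (lt_irrefl _), neg_zero]
        · rw [dif_neg (lt_asymm hij), dif_pos hij, dif_pos hij]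
      let S : V →ₗ[F] V := b.constr F (fun i => D.symm (b.constr F (A i)))
      have hS : ∀ i j, polar Q (S (b i)) (b j) = A i j := by
        intro i j
        rw [← hD]
        simp only [S]
        rw [Module.Basis.constr_basis, LinearEquiv.apply_symm_apply, Module.Basis.constr_basis]
      have hS' : S ∈ so Q := by
        let L1 : V →ₗ[F] V →ₗ[F] F := (D : V →ₗ[F] Module.Dual F V) ∘ₗ S
        let L2 : V →ₗ[F] V →ₗ[F] F := -(((D : V →ₗ[F] Module.Dual F V) : V →ₗ[F] V →ₗ[F] F).compl₂ S)
        have e : L1 = L2 := by
          refine b.ext fun i => b.ext fun j => ?_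
          show D (S (b i)) (b j) = -(D (b i) (S (b j)))
          rw [hD, hD, hS, hA, ← hS, polar_comm]
        intro u v
        have h := LinearMap.congr_fun (LinearMap.congr_fun e u) v
        have h' : D (S u) v = -(D u (S v)) := h
        rwa [hD, hD] at h'
      refine ⟨⟨S, hS'⟩, ?_⟩
      ext ⟨⟨i, j⟩, hij⟩
      show polar Q (S (b i)) (b j) = _
      rw [hS]
      simp only [A]
      rw [dif_pos hij]
  rw [(LinearEquiv.ofBijective Φ hΦ).finrank_eq, Module.finrank_fintype_fun_eq_card, card_pairs]

end Cfsg.Agent.H127.Co3
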